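import Groth.Agent.LargeNormal.Basic
import Groth.Agent.GrpSchLib.QuotAffine
import Groth.Agent.GrpSchLib.SubgroupFactor
import Groth.Agent.GrpSchLib.SubschemeDescent
import Groth.Agent.GrpSchLib.HomUnitLocus
import Groth.Agent.H23.GeomConn
import Groth.Agent.EtFound.Descent
import Groth.Prelude.Def_GalTw2
import Mathlib.FieldTheory.IsSepClosed
import Mathlib.Algebra.Polynomial.Identities

/-!
The largest smooth connected affine normal subgroup commutes with separable algebraic extensions.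
-/

set_option backward.isDefEq.respectTransparency false
set_option backward.isDefEq.respectTransparency.types false
set_option synthInstance.maxHeartbeats 400000
set_option maxHeartbeats 1600000

universe u

open CategoryTheory Limits AlgebraicGeometry MonoidalCategory CartesianMonoidalCategory MonObj

noncomputable section

namespace Groth.Agent.LargeNormal

/-- Two homomorphisms from a Galois extension to a local ring differ by an automorphism. -/
theorem exists_algEquiv_comp {k K : Type*} [Field k] [Field K] [Algebra k K] [IsGalois k K] {R : Type*} [CommRing R]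
    [IsLocalRing R] (α β : K →+* R) (h : α.comp (algebraMap k K) = β.comp (algebraMap k K)) :
    ∃ σ : K ≃ₐ[k] K, ∀ x, β x = α (σ x) := by
  let res := IsLocalRing.residue R
  letI : Algebra K (IsLocalRing.ResidueField R) := (res.comp α).toAlgebra
  letI : Algebra k (IsLocalRing.ResidueField R) := ((res.comp α).comp (algebraMap k K)).toAlgebra
  haveI : IsScalarTower k K (IsLocalRing.ResidueField R) := IsScalarTower.of_algebraMap_eq' rfl
  let ϕ : K →ₐ[k] IsLocalRing.ResidueField R :=
    { res.comp β with commutes' := fun c => congrArg res (RingHom.congr_fun h c).symm }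
  let σ : K →ₐ[k] K := ϕ.restrictNormal K
  have hσ : ∀ x, res (α (σ x)) = res (β x) := fun x => AlgHom.restrictNormal_commutes ϕ K x
  refine ⟨AlgEquiv.ofBijective σ (Algebra.IsAlgebraic.algHom_bijective σ), fun x => ?_⟩
  rw [AlgEquiv.coe_ofBijective]
  have hp : Polynomial.eval (β x) ((minpoly k x).map (β.comp (algebraMap k K))) = 0 := by
    rw [Polynomial.eval_map, ← Polynomial.hom_eval₂, ← Polynomial.aeval_def, minpoly.aeval, map_zero]
  set p := (minpoly k x).map (β.comp (algebraMap k K)) with hpdef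
  have hq : Polynomial.eval (α (σ x)) p = 0 := by
    rw [hpdef, ← h, Polynomial.eval_map, ← Polynomial.hom_eval₂, ← Polynomial.aeval_def, Polynomial.aeval_algHom_apply,
      minpoly.aeval, map_zero, map_zero]
  obtain ⟨c, hc⟩ := p.binomExpansion (α (σ x)) (β x - α (σ x))
  rw [add_sub_cancel, hp, hq, zero_add] at hc
  have hu : IsUnit (p.derivative.eval (α (σ x))) := by
    rw [hpdef, ← h, Polynomial.derivative_map, Polynomial.eval_map, ← Polynomial.hom_eval₂, ← Polynomial.aeval_def]
    refine (IsUnit.mk0 _ fun h0 => ?_).map α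
    have hsep : (minpoly k x).Separable := Algebra.IsSeparable.isSeparable k x
    exact hsep.aeval_derivative_ne_zero (by rw [Polynomial.aeval_algHom_apply, minpoly.aeval, map_zero]) h0
  have hm : c * (β x - α (σ x)) ∈ IsLocalRing.maximalIdeal R := by
    refine Ideal.mul_mem_left _ _ ?_
    rw [← IsLocalRing.residue_eq_zero_iff, map_sub, sub_eq_zero]
    exact (hσ x).symm
  have hu' : IsUnit (p.derivative.eval (α (σ x)) + c * (β x - α (σ x))) := by
    by_contra hn
    exact (IsLocalRing.mem_maximalIdeal _).mp (by simpa using sub_mem ((IsLocalRing.mem_maximalIdeal _).mpr hn) hm) hu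
  exact sub_eq_zero.mp (hu'.mul_right_eq_zero.mp (by linear_combination -hc))

theorem isMonHom_of_mul {C : Type*} [Category C] [CartesianMonoidalCategory C] {A B : C} [GrpObj A] [GrpObj B]
    (e : A ⟶ B) (h : ∀ (T : C) (a b : T ⟶ A), (a * b) ≫ e = (a ≫ e) * (b ≫ e)) : IsMonHom e := by
  constructor
  · have h1 := h _ (1 : 𝟙_ C ⟶ A) 1
    rw [_root_.one_mul, left_eq_mul] at h1
    rwa [Hom.one_def, Hom.one_def, toUnit_unique (toUnit _) (𝟙 _), Category.id_comp, Category.id_comp] at h1
  · have h1 := h _ (fst A A) (snd A A)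
    rw [Hom.mul_def, Hom.mul_def, lift_fst_snd, Category.id_comp] at h1
    rw [h1, ← lift_map, lift_fst_snd, Category.id_comp]

/-- A monomorphism with stable image is a normal subgroup. -/
theorem exists_subgroup {E : Type*} [Category E] [CartesianMonoidalCategory E] {G Z : E} [GrpObj G]
    (j : Z ⟶ G) [Mono j] (h1 : ∃ z, z ≫ j = η[G])
    (hmul : ∀ (T : E) (x y : T ⟶ Z), ∃ z, z ≫ j = (x ≫ j) * (y ≫ j))
    (hinv : ∀ (T : E) (x : T ⟶ Z), ∃ z, z ≫ j = (x ≫ j)⁻¹)
    (hconj : ∀ (T : E) (g : T ⟶ G) (x : T ⟶ Z), ∃ z, g * (x ≫ j) * g⁻¹ = z ≫ j) :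
    ∃ _ : GrpObj Z, IsMonHom j ∧ ∀ (T : E) (g : T ⟶ G) (x : T ⟶ Z), ∃ z, g * (x ≫ j) * g⁻¹ = z ≫ j := by
  obtain ⟨η', he⟩ := h1
  obtain ⟨μ', hm⟩ := hmul _ (fst Z Z) (snd Z Z)
  obtain ⟨ι', hv⟩ := hinv _ (𝟙 Z)
  rw [Category.id_comp] at hv
  obtain ⟨str, hj⟩ := GrpSchLib.exists_grpObj_of_mono j η' he μ' hm ι' hv
  exact ⟨str, hj, hconj⟩

section Bc

variable {S U U' : Scheme.{u}} {φ' : U ⟶ S} {ψ : U' ⟶ U} {φ : U' ⟶ S}

/-- The comparison of iterated base changes. -/
def bcComp (h : ψ ≫ φ' = φ) (G : Over S) : Red.bc ψ (Red.bc φ' G) ≅ Red.bc φ G :=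
  Over.isoMk
    { hom := pullback.lift (pullback.fst (Red.bc φ' G).hom ψ ≫ pullback.fst G.hom φ') (pullback.snd (Red.bc φ' G).hom ψ)
        (by subst h; rw [Category.assoc, pullback.condition, ← Category.assoc, ← Category.assoc, ← pullback.condition]; rfl)
      inv := pullback.lift (pullback.lift (pullback.fst G.hom φ) (pullback.snd G.hom φ ≫ ψ)
          (by subst h; rw [pullback.condition, Category.assoc]))
        (pullback.snd G.hom φ) (by show _ ≫ pullback.snd G.hom φ' = _; rw [pullback.lift_snd])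
      hom_inv_id := by
        refine pullback.hom_ext (pullback.hom_ext ?_ ?_) ?_
        · rw [Category.assoc, Category.assoc, pullback.lift_fst_assoc, pullback.lift_fst, pullback.lift_fst,
            Category.id_comp]
        · rw [Category.assoc, Category.assoc, pullback.lift_fst_assoc, pullback.lift_snd, pullback.lift_snd_assoc,
            Category.id_comp]
          exact pullback.condition.symm
        · rw [Category.assoc, pullback.lift_snd, pullback.lift_snd, Category.id_comp]
      inv_hom_id := by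
        refine pullback.hom_ext ?_ ?_
        · rw [Category.assoc, pullback.lift_fst, pullback.lift_fst_assoc, pullback.lift_fst, Category.id_comp]
        · refine (Category.assoc _ _ _).trans ?_
          refine (congrArg (fun m => _ ≫ m) (pullback.lift_snd _ _ _)).trans ?_
          exact (pullback.lift_snd _ _ _).trans (Category.id_comp _).symm }
    (pullback.lift_snd _ _ _)

theorem bcComp_fst (h : ψ ≫ φ' = φ) (G : Over S) :
    (bcComp h G).hom.left ≫ pullback.fst G.hom φ = pullback.fst (Red.bc φ' G).hom ψ ≫ pullback.fst G.hom φ' :=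
  pullback.lift_fst _ _ _

theorem isMonHom_bcComp (h : ψ ≫ φ' = φ) (G : Over S) [GrpObj G] : IsMonHom (bcComp h G).hom := by
  refine isMonHom_of_mul _ fun Y a b => (DSPtsLib.theta_bijective φ).1 ?_
  let m : (Over.map φ).obj Y ⟶ (Over.map φ').obj ((Over.map ψ).obj Y) := Over.homMk (𝟙 Y.left) (by
    show 𝟙 _ ≫ (Y.hom ≫ ψ) ≫ φ' = Y.hom ≫ φ
    rw [Category.id_comp, Category.assoc, h])
  have hpt : ∀ (a : Y ⟶ Red.bc ψ (Red.bc φ' G)),
      DSPtsLib.theta φ (a ≫ (bcComp h G).hom) = m ≫ DSPtsLib.theta φ' (DSPtsLib.theta ψ a) := fun a => by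
    refine Over.OverMorphism.ext ?_
    show (a.left ≫ (bcComp h G).hom.left) ≫ pullback.fst G.hom φ =
      𝟙 _ ≫ (a.left ≫ pullback.fst (Red.bc φ' G).hom ψ) ≫ pullback.fst G.hom φ'
    rw [Category.assoc, bcComp_fst, Category.id_comp, Category.assoc]
  rw [DSPtsLib.theta_mul, hpt, hpt, hpt, DSPtsLib.theta_mul, DSPtsLib.theta_mul, MonObj.comp_mul]

theorem map_fst {S U : Scheme.{u}} (φ : U ⟶ S) {A B : Over S} (f : A ⟶ B) :
    ((Over.pullback φ).map f).left ≫ pullback.fst B.hom φ = pullback.fst A.hom φ ≫ f.left :=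
  pullback.lift_fst _ _ _

end Bc

variable {k : Type u} [Field k]

/-- Smooth connected affine normal closed subgroups. -/
abbrev GoodA {G H : Over (Spec (CommRingCat.of k))} [GrpObj G] [GrpObj H] (j : H ⟶ G) : Prop :=
  Good (fun E _ => IsAffine E.left) j

theorem goodA_comp_iso {G G' H : Over (Spec (CommRingCat.of k))} [GrpObj G] [GrpObj G'] [GrpObj H] {j : H ⟶ G}
    (hj : GoodA j) (e : G ≅ G') (he : IsMonHom e.hom) : GoodA (j ≫ e.hom) := by
  haveI := hj.hom
  haveI := hj.closed
  haveI := he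
  haveI : IsIso e.hom.left := ((Over.forget _).mapIso e).isIso_hom
  refine ⟨inferInstance, inferInstanceAs (IsClosedImmersion (j.left ≫ e.hom.left)), hj.smooth, hj.conn,
    fun T g n => ?_, hj.prop⟩
  obtain ⟨n', hn'⟩ := hj.normal T (g ≫ e.inv) n
  refine ⟨n', ?_⟩
  have h := congrArg (· ≫ e.hom) hn'
  simpa [MonObj.mul_comp, GrpObj.inv_comp, Category.assoc] using h

theorem goodA_bc {K : Type u} [Field K] (φ : Spec (CommRingCat.of K) ⟶ Spec (CommRingCat.of k))
    {G H : Over (Spec (CommRingCat.of k))} [GrpObj G] [GrpObj H] {j : H ⟶ G} (hj : GoodA j) :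
    GoodA ((Over.pullback φ).map j) := by
  haveI := hj.hom
  haveI := hj.closed
  haveI := hj.smooth
  haveI := hj.conn
  haveI : IsAffine H.left := hj.prop
  refine ⟨inferInstance, ?_, inferInstanceAs (Smooth (pullback.snd H.hom φ)), ?_, fun T g n => ?_,
    inferInstanceAs (IsAffine (pullback H.hom φ))⟩
  · refine MorphismProperty.of_isPullback (P := @IsClosedImmersion) (g := j.left) (f' := pullback.fst H.hom φ)
      (f := pullback.fst G.hom φ) ?_ hj.closed
    refine IsPullback.of_bot (v₂₁ := pullback.snd G.hom φ) (v₂₂ := G.hom) (h₃₁ := φ) ?_ (map_fst φ j).symm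
      (IsPullback.of_hasPullback G.hom φ)
    have h1 : ((Over.pullback φ).map j).left ≫ pullback.snd G.hom φ = pullback.snd H.hom φ :=
      Over.w ((Over.pullback φ).map j)
    rw [h1, Over.w j]
    exact IsPullback.of_hasPullback H.hom φ
  · haveI : GeometricallyConnected H.hom := H23.GeomConn.of_point k H.hom η[H].left (Over.w η[H])
    exact inferInstanceAs (ConnectedSpace ↥(pullback H.hom φ))
  · obtain ⟨n', hn'⟩ := hj.normal _ (DSPtsLib.theta φ g) (DSPtsLib.theta φ n)
    obtain ⟨m, rfl⟩ := (DSPtsLib.theta_bijective (H := H) φ).2 n'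
    refine ⟨m, (DSPtsLib.theta_bijective φ).1 ?_⟩
    have hinv : DSPtsLib.theta φ g⁻¹ = (DSPtsLib.theta φ g)⁻¹ :=
      map_inv (MonoidHom.mk' (fun a : T ⟶ Red.bc φ G => DSPtsLib.theta φ a) (DSPtsLib.theta_mul φ)) g
    rw [DSPtsLib.theta_mul, DSPtsLib.theta_mul, hinv, GrpSchLib.HomUnitLocus.theta_comp_map,
      GrpSchLib.HomUnitLocus.theta_comp_map, hn']

theorem exists_largest_goodA (G : Over (Spec (CommRingCat.of k))) [GrpObj G] [LocallyOfFiniteType G.hom]
    [QuasiCompact G.hom] :
    ∃ (H : Over (Spec (CommRingCat.of k))) (_ : GrpObj H) (j : H ⟶ G), GoodA j ∧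
      ∀ (H' : Over (Spec (CommRingCat.of k))) [GrpObj H'] (j' : H' ⟶ G), GoodA j' → ∃ f : H' ⟶ H, f ≫ j = j' := by
  haveI := GrpSchLib.AntiAffine.isSeparated_grp G
  haveI : IsClosedImmersion η[G].left := by
    haveI : IsClosedImmersion (η[G].left ≫ G.hom) := by
      rw [Over.w η[G]]; exact inferInstanceAs (IsClosedImmersion (𝟙 (Spec (CommRingCat.of k))))
    exact IsClosedImmersion.of_comp η[G].left G.hom
  let U : Over (Spec (CommRingCat.of k)) := 𝟙_ _
  have hU : IsMonHom (η[G] : U ⟶ G) := by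
    refine isMonHom_of_mul _ fun T a b => ?_
    rw [show (η[G] : U ⟶ G) = 1 from MonObj.one_eq_one (M := G), MonObj.comp_one, MonObj.comp_one, MonObj.comp_one,
      _root_.mul_one]
  have hUn : AlgGrp.IsNormalHom (η[G] : U ⟶ G) := fun T g n => ⟨toUnit T, by
    rw [toUnit_unique n (toUnit T)]
    show g * (1 : T ⟶ G) * g⁻¹ = (1 : T ⟶ G)
    rw [_root_.mul_one, mul_inv_cancel]⟩
  obtain ⟨N, hN, i, hi, hmax, -⟩ := exists_largest
    (P := fun E _ => IsAffine E.left)
    (hPa := fun N E Q _ _ _ _ _ _ _ _ _ i q _ _ _ _ hk _ hN hQ => (S7982.result k N E Q i q hk).1 hN hQ)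
    (hPb := fun E Q _ _ _ _ _ _ q _ _ _ hE => GrpSchLib.isAffine_of_quotient q) (G := G)
    ⟨U, inferInstance, η[G], ⟨hU, ‹_›, inferInstanceAs (Smooth (𝟙 (Spec (CommRingCat.of k)))),
      (inferInstanceAs (ConnectedSpace ↥(Spec (CommRingCat.of k)))), hUn,
      inferInstanceAs (IsAffine (Spec (CommRingCat.of k)))⟩⟩
  exact ⟨N, hN, i, hi, hmax⟩

section Galois

variable {K : Type u} [Field K] [Algebra k K]

variable {G : Over (Spec (CommRingCat.of k))} [GrpObj G] {L : Over (Spec (CommRingCat.of K))} [GrpObj L]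
  {j : L ⟶ Red.bc (SGA7.pt (K := k) K).hom G}

/-- The largest subgroup is stable under Galois. -/
theorem exists_galMap (hj : GoodA j)
    (hmax : ∀ (H' : Over (Spec (CommRingCat.of K))) [GrpObj H'] (j' : H' ⟶ Red.bc (SGA7.pt (K := k) K).hom G), GoodA j' →
      ∃ f : H' ⟶ L, f ≫ j = j') (σ : K ≃ₐ[k] K) :
    ∃ l : L.left ⟶ L.left, l ≫ j.left = j.left ≫ GalTw.galMap K σ G := by
  let ψ := GalTw.specMap K σ⁻¹
  have hψ : ψ ≫ (SGA7.pt (K := k) K).hom = (SGA7.pt (K := k) K).hom := GalTw.specMap_comp_pt σ⁻¹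
  obtain ⟨f, hf⟩ := hmax _ _ (goodA_comp_iso (goodA_bc ψ hj) (bcComp hψ G) (isMonHom_bcComp hψ G))
  let s : L.left ⟶ pullback L.hom ψ := pullback.lift (𝟙 _) (L.hom ≫ GalTw.specMap K σ) (by
    simp only [ψ]
    rw [Category.id_comp, Category.assoc, ← GalTw.specMap_mul, mul_inv_cancel, GalTw.specMap_one, Category.comp_id])
  refine ⟨s ≫ f.left, ?_⟩
  have hf' : f.left ≫ j.left = ((Over.pullback ψ).map j).left ≫ (bcComp hψ G).hom.left :=
    congrArg CommaMorphism.left hf
  have hj2 : j.left ≫ pullback.snd G.hom (SGA7.pt (K := k) K).hom = L.hom := Over.w j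
  rw [Category.assoc, hf']
  refine pullback.hom_ext ?_ ?_
  · rw [Category.assoc, Category.assoc, Category.assoc, bcComp_fst, GalTw.galMap_fst]
    rw [← Category.assoc (((Over.pullback ψ).map j).left), map_fst, Category.assoc]
    exact pullback.lift_fst_assoc _ _ _ _ |>.trans (Category.id_comp _)
  · rw [Category.assoc, Category.assoc, Category.assoc, GalTw.galMap_snd, reassoc_of% hj2]
    have h2 : (bcComp hψ G).hom.left ≫ pullback.snd G.hom (SGA7.pt (K := k) K).hom = pullback.snd (Red.bc (SGA7.pt (K := k) K).hom G).hom ψ := Over.w _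
    have h3 : ((Over.pullback ψ).map j).left ≫ pullback.snd (Red.bc (SGA7.pt (K := k) K).hom G).hom ψ = pullback.snd L.hom ψ := Over.w _
    rw [h2, h3]
    exact pullback.lift_snd _ _ _

/-- The two pullbacks of a Galois stable subscheme agree. -/
theorem galois_key [IsGalois k K] [IsImmersion j.left]
    (hst : ∀ σ : K ≃ₐ[k] K, ∃ l : L.left ⟶ L.left, l ≫ j.left = j.left ≫ GalTw.galMap K σ G)
    (T : Scheme.{u}) (a b : T ⟶ (Red.bc (SGA7.pt (K := k) K).hom G).left) (hab : a ≫ pullback.fst G.hom (SGA7.pt (K := k) K).hom = b ≫ pullback.fst G.hom (SGA7.pt (K := k) K).hom)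
    (hl : ∃ l, l ≫ j.left = a) : ∃ l, l ≫ j.left = b := by
  obtain ⟨l, hl⟩ := hl
  refine GrpSchLib.SubgroupFactor.exists_lift_of_stalks j.left b fun y => ?_
  let a' := T.fromSpecStalk y ≫ a ≫ pullback.snd G.hom (SGA7.pt (K := k) K).hom
  let b' := T.fromSpecStalk y ≫ b ≫ pullback.snd G.hom (SGA7.pt (K := k) K).hom
  obtain ⟨α, hα⟩ : ∃ α, Spec.map α = a' := ⟨_, Spec.map_preimage a'⟩
  obtain ⟨β, hβ⟩ : ∃ β, Spec.map β = b' := ⟨_, Spec.map_preimage b'⟩
  have hk : α.hom.comp (algebraMap k K) = β.hom.comp (algebraMap k K) := by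
    have h : Spec.map α ≫ (SGA7.pt (K := k) K).hom = Spec.map β ≫ (SGA7.pt (K := k) K).hom := by
      simp only [hα, hβ, a', b', Category.assoc, ← pullback.condition, reassoc_of% hab]
    have h' : Spec.map (CommRingCat.ofHom (algebraMap k K) ≫ α) = Spec.map (CommRingCat.ofHom (algebraMap k K) ≫ β) := by
      rw [Spec.map_comp, Spec.map_comp]
      exact h
    exact congrArg CommRingCat.Hom.hom (Spec.map_injective h')
  obtain ⟨σ, hσ⟩ := exists_algEquiv_comp α.hom β.hom hk
  obtain ⟨m, hm⟩ := hst σ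
  refine ⟨T.fromSpecStalk y ≫ l ≫ m, ?_⟩
  rw [Category.assoc, Category.assoc, hm, reassoc_of% hl]
  refine pullback.hom_ext ?_ ?_
  · rw [Category.assoc, Category.assoc, Category.assoc, GalTw.galMap_fst, hab]
  · rw [Category.assoc, Category.assoc, Category.assoc, GalTw.galMap_snd]
    show _ = b'
    rw [← hβ, show β = CommRingCat.ofHom (σ : K →+* K) ≫ α from CommRingCat.hom_ext (RingHom.ext hσ), Spec.map_comp, hα]
    simp only [a', Category.assoc]

theorem covering_pt : Surjective (SGA7.pt (K := k) K).hom ∧ Flat (SGA7.pt (K := k) K).hom ∧ QuasiCompact (SGA7.pt (K := k) K).hom := by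
  refine ⟨⟨fun x => ⟨IsLocalRing.closedPoint K, Subsingleton.elim _ _⟩⟩, ?_,
    inferInstanceAs (QuasiCompact (Spec.map (CommRingCat.ofHom (algebraMap k K))))⟩
  exact inferInstanceAs (Flat (Spec.map (CommRingCat.ofHom (algebraMap k K))))

/-- A Galois stable good subgroup comes from the base. -/
theorem exists_descent [IsGalois k K] (hj : GoodA j)
    (hst : ∀ σ : K ≃ₐ[k] K, ∃ l : L.left ⟶ L.left, l ≫ j.left = j.left ≫ GalTw.galMap K σ G) :
    ∃ (H : Over (Spec (CommRingCat.of k))) (_ : GrpObj H) (i : H ⟶ G), GoodA i ∧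
      ∃ e : L ⟶ Red.bc (SGA7.pt (K := k) K).hom H, e ≫ (Over.pullback (SGA7.pt (K := k) K).hom).map i = j := by
  haveI := hj.hom
  haveI := hj.closed
  haveI := hj.smooth
  haveI := hj.conn
  haveI : IsAffine L.left := hj.prop
  haveI : Mono j := Over.mono_of_mono_left _
  obtain ⟨_, _, _⟩ := covering_pt (k := k) (K := K)
  let g := pullback.fst G.hom (SGA7.pt (K := k) K).hom
  have hcπ : FpqcDescLib.IsCovering (SGA7.pt (K := k) K).hom := FpqcDescLib.isCovering_of_quasiCompact (SGA7.pt (K := k) K).hom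
  obtain ⟨Z, i, hi, hfac⟩ := GrpSchLib.SubschemeDescent.exists_descend g (FpqcDescLib.isCovering_of_quasiCompact g)
    j.left (galois_key hst) (fun hpre => by
      have hc : IsClosed (g '' Set.range j.left) :=
        (Flat.isQuotientMap_of_surjective g).isClosed_preimage.mp
          ((congrArg IsClosed hpre).mpr j.left.isClosedEmbedding.isClosed_range)
      intro x hx
      exact subset_closure (hpre.subset (hc.closure_subset hx)))
  haveI := hi
  let H : Over (Spec (CommRingCat.of k)) := Over.mk (i ≫ G.hom)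
  let i' : H ⟶ G := Over.homMk i rfl
  haveI : IsImmersion i'.left := hi
  haveI : Mono i' := Over.mono_of_mono_left _
  let F := Over.pullback (SGA7.pt (K := k) K).hom
  have hin : ∀ {Y : Over (Spec (CommRingCat.of k))} (x : Y ⟶ G), (∃ h, h ≫ j = F.map x) → ∃ y, y ≫ i' = x := by
    intro Y x ⟨h, hh⟩
    obtain ⟨l, hl⟩ := (hfac _ (F.map x).left).mp ⟨h.left, congrArg CommaMorphism.left hh⟩
    have hl' : l ≫ i = pullback.fst Y.hom (SGA7.pt (K := k) K).hom ≫ x.left := hl.trans (map_fst (SGA7.pt (K := k) K).hom x)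
    have hcY := (FpqcDescLib.covers_of_isCovering hcπ).pullback Y.hom (pullback.fst Y.hom (SGA7.pt (K := k) K).hom)
      (pullback.snd Y.hom (SGA7.pt (K := k) K).hom) (IsPullback.of_hasPullback Y.hom (SGA7.pt (K := k) K).hom)
    obtain ⟨y, hy, -⟩ := hcY.desc l fun T a b e => by
      rw [← cancel_mono i, Category.assoc, Category.assoc, hl', reassoc_of% e]
    haveI := hcY.epi
    have hyi : y ≫ i = x.left := by rw [← cancel_epi (pullback.fst Y.hom (SGA7.pt (K := k) K).hom), reassoc_of% hy, hl']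
    exact ⟨Over.homMk y (by show y ≫ i ≫ G.hom = Y.hom; rw [reassoc_of% hyi, Over.w x]),
      Over.OverMorphism.ext hyi⟩
  have hout : ∀ {Y : Over (Spec (CommRingCat.of k))} (y : Y ⟶ H), ∃ h, h ≫ j = F.map (y ≫ i') := by
    intro Y y
    obtain ⟨h, hh⟩ := (hfac _ (F.map (y ≫ i')).left).mpr ⟨pullback.fst Y.hom (SGA7.pt (K := k) K).hom ≫ y.left, by
      rw [map_fst, Category.assoc]; rfl⟩
    refine ⟨Over.homMk h ?_, Over.OverMorphism.ext hh⟩
    rw [← Over.w j, reassoc_of% hh]
    exact Over.w (F.map (y ≫ i'))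
  have hm : ∀ {Y : Over (Spec (CommRingCat.of k))} (x x' : Y ⟶ G), F.map (x * x') = F.map x * F.map x' :=
    fun x x' => Functor.map_mul F x x'
  have h1 : ∀ {Y : Over (Spec (CommRingCat.of k))}, F.map (1 : Y ⟶ G) = 1 := fun {Y} => by
    have h := hm (1 : Y ⟶ G) 1
    rwa [_root_.one_mul, left_eq_mul] at h
  have hv : ∀ {Y : Over (Spec (CommRingCat.of k))} (x : Y ⟶ G), F.map x⁻¹ = (F.map x)⁻¹ := fun x =>
    eq_inv_of_mul_eq_one_left (by rw [← hm, inv_mul_cancel, h1])
  obtain ⟨str, hhom, hnor⟩ := exists_subgroup i'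
    (hin η[G] ⟨1, by rw [MonObj.one_comp, show η[G] = (1 : 𝟙_ _ ⟶ G) from MonObj.one_eq_one (M := G), h1]⟩)
    (fun T x y => hin _ (by
      obtain ⟨a, ha⟩ := hout x
      obtain ⟨b, hb⟩ := hout y
      exact ⟨a * b, by rw [MonObj.mul_comp, ha, hb, hm]⟩))
    (fun T x => hin _ (by
      obtain ⟨a, ha⟩ := hout x
      exact ⟨a⁻¹, by rw [GrpObj.inv_comp, ha, hv]⟩))
    (fun T g x => by
      obtain ⟨y, hy⟩ := hin (g * (x ≫ i') * g⁻¹) (by
        obtain ⟨a, ha⟩ := hout x
        obtain ⟨n, hn⟩ := hj.normal _ (F.map g) a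
        exact ⟨n, by rw [← hn, ha, hm, hm, hv]⟩)
      exact ⟨y, hy.symm⟩)
  letI := str
  obtain ⟨φh, hφh⟩ := hout (𝟙 H)
  rw [Category.id_comp] at hφh
  obtain ⟨f₂, hf₂⟩ := (hfac _ j.left).mp ⟨𝟙 _, Category.id_comp _⟩
  let φi : L ⟶ Red.bc (SGA7.pt (K := k) K).hom H := Over.homMk (pullback.lift f₂ L.hom (by
    show f₂ ≫ i ≫ G.hom = L.hom ≫ (SGA7.pt (K := k) K).hom
    rw [reassoc_of% hf₂, pullback.condition, ← Over.w j]
    exact (Category.assoc _ _ _).symm)) (pullback.lift_snd _ _ _)
  have hφi : φi ≫ F.map i' = j := by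
    refine Over.OverMorphism.ext (pullback.hom_ext ?_ ?_)
    · show (pullback.lift f₂ L.hom _ ≫ (F.map i').left) ≫ _ = _
      rw [Category.assoc, map_fst, pullback.lift_fst_assoc]
      exact hf₂
    · exact (Over.w (φi ≫ F.map i')).trans (Over.w j).symm
  haveI : Mono (F.map i') := inferInstance
  let e : L ≅ Red.bc (SGA7.pt (K := k) K).hom H :=
    ⟨φi, φh, by rw [← cancel_mono j, Category.assoc, hφh, hφi, Category.id_comp],
      by rw [← cancel_mono (F.map i'), Category.assoc, hφi]; exact hφh.trans (Category.id_comp _).symm⟩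
  haveI : IsIso e.inv.left := ((Over.forget _).mapIso e.symm).isIso_hom
  have hsnd : pullback.snd H.hom (SGA7.pt (K := k) K).hom = e.inv.left ≫ L.hom := (Over.w e.inv).symm
  have hQ : (@Surjective ⊓ @Flat ⊓ @QuasiCompact : MorphismProperty Scheme.{u}) (SGA7.pt (K := k) K).hom :=
    ⟨⟨‹_›, ‹_›⟩, ‹_›⟩
  have hsm : Smooth H.hom := MorphismProperty.of_pullback_snd_of_descendsAlong (P := @Smooth) hQ (by
    rw [hsnd]; exact inferInstanceAs (Smooth (e.inv.left ≫ L.hom)))
  have haff : IsAffine H.left := by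
    haveI := EtFound.fpqc_isAffineHom.{u}
    haveI : IsAffineHom H.hom := MorphismProperty.of_pullback_snd_of_descendsAlong (P := @IsAffineHom) hQ (by
      rw [hsnd]; exact inferInstanceAs (IsAffineHom (e.inv.left ≫ L.hom)))
    exact isAffine_of_isAffineHom H.hom
  have hcl : IsClosedImmersion i'.left := by
    haveI := EtFound.fpqc_isClosedImmersion.{u}
    refine MorphismProperty.of_isPullback_of_descendsAlong (P := @IsClosedImmersion)
      (Q := (@Surjective ⊓ @Flat ⊓ @QuasiCompact : MorphismProperty Scheme.{u}))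
      (f := g) (g := i) (fst := (F.map i').left) (snd := pullback.fst H.hom (SGA7.pt (K := k) K).hom) ?_ ⟨⟨inferInstance, inferInstance⟩, inferInstance⟩ ?_
    · refine (IsPullback.of_bot (v₂₁ := pullback.snd G.hom (SGA7.pt (K := k) K).hom) (v₂₂ := G.hom) (h₃₁ := (SGA7.pt (K := k) K).hom) ?_ (map_fst (SGA7.pt (K := k) K).hom i').symm
        (IsPullback.of_hasPullback G.hom (SGA7.pt (K := k) K).hom)).flip
      have h : (F.map i').left ≫ pullback.snd G.hom (SGA7.pt (K := k) K).hom = pullback.snd H.hom (SGA7.pt (K := k) K).hom := Over.w (F.map i')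
      rw [h]
      exact IsPullback.of_hasPullback H.hom (SGA7.pt (K := k) K).hom
    · have h : (F.map i').left = e.inv.left ≫ j.left := congrArg CommaMorphism.left (hφh.symm)
      rw [h]
      infer_instance
  have hconn : ConnectedSpace H.left := by
    haveI : IsIso e.hom.left := ((Over.forget _).mapIso e).isIso_hom
    haveI : Surjective (pullback.fst H.hom (SGA7.pt (K := k) K).hom) := inferInstance
    haveI : Surjective e.hom.left := inferInstance
    have hs : Function.Surjective (e.hom.left ≫ pullback.fst H.hom (SGA7.pt (K := k) K).hom) := (e.hom.left ≫ pullback.fst H.hom (SGA7.pt (K := k) K).hom).surjective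
    exact hs.connectedSpace (e.hom.left ≫ pullback.fst H.hom (SGA7.pt (K := k) K).hom).continuous
  exact ⟨H, str, i', ⟨hhom, hcl, hsm, hconn, hnor, haff⟩, φi, hφi⟩

end Galois

/-- The largest smooth connected affine normal subgroup commutes with separable algebraic extensions. -/
theorem factors_baseChange {G N : Over (Spec (CommRingCat.of k))} [GrpObj G] [GrpObj N] [LocallyOfFiniteType G.hom]
    [QuasiCompact G.hom] (j : N ⟶ G) [IsClosedImmersion j.left]
    (hmax : ∀ (H : Over (Spec (CommRingCat.of k))) [GrpObj H] (j' : H ⟶ G), GoodA j' → ∃ f : H ⟶ N, f ≫ j = j')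
    (k' : Type u) [Field k'] [Algebra k k'] [Algebra.IsSeparable k k']
    {H : Over (Spec (CommRingCat.of k'))} [GrpObj H] {j' : H ⟶ Red.bc (SGA7.pt (K := k) k').hom G} (hj' : GoodA j') :
    ∃ f : H ⟶ Red.bc (SGA7.pt (K := k) k').hom N, f ≫ (Over.pullback (SGA7.pt (K := k) k').hom).map j = j' := by
  let Ω := SeparableClosure k
  let φ' := (SGA7.pt (K := k) k').hom
  let φ := (SGA7.pt (K := k) Ω).hom
  let em : k' →ₐ[k] Ω := IsSepClosed.lift
  let ψ : Spec (CommRingCat.of Ω) ⟶ Spec (CommRingCat.of k') := Spec.map (CommRingCat.ofHom em.toRingHom)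
  have hψ : ψ ≫ φ' = φ := by
    show Spec.map _ ≫ Spec.map _ = Spec.map _
    rw [← Spec.map_comp, ← CommRingCat.ofHom_comp]
    congr 2
    exact em.comp_algebraMap
  haveI : LocallyOfFiniteType (Red.bc φ G).hom := inferInstanceAs (LocallyOfFiniteType (pullback.snd G.hom φ))
  haveI : QuasiCompact (Red.bc φ G).hom := inferInstanceAs (QuasiCompact (pullback.snd G.hom φ))
  obtain ⟨L, _, jL, hjL, hLmax⟩ := exists_largest_goodA (Red.bc φ G)
  obtain ⟨N₀, _, j₀, hj₀, e, he⟩ := exists_descent hjL (exists_galMap hjL fun H' _ j'' h => hLmax H' j'' h)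
  obtain ⟨f₀, hf₀⟩ := hmax N₀ j₀ hj₀
  obtain ⟨f₁, hf₁⟩ := hLmax _ _ (goodA_comp_iso (goodA_bc ψ hj') (bcComp hψ G) (isMonHom_bcComp hψ G))
  let p := pullback.fst H.hom ψ
  let v : pullback H.hom ψ ⟶ N.left := f₁.left ≫ e.left ≫ pullback.fst N₀.hom φ ≫ f₀.left
  have hv : v ≫ j.left = p ≫ j'.left ≫ pullback.fst G.hom φ' := by
    have h0 : f₀.left ≫ j.left = j₀.left := congrArg CommaMorphism.left hf₀
    have h1 : f₁.left ≫ jL.left = ((Over.pullback ψ).map j').left ≫ (bcComp hψ G).hom.left :=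
      congrArg CommaMorphism.left hf₁
    have h2 : e.left ≫ ((Over.pullback φ).map j₀).left = jL.left := congrArg CommaMorphism.left he
    simp only [v, Category.assoc, h0]
    rw [← map_fst φ j₀, reassoc_of% h2, reassoc_of% h1, bcComp_fst, ← Category.assoc, map_fst, Category.assoc]
  obtain ⟨_, _, _⟩ : Surjective ψ ∧ Flat ψ ∧ QuasiCompact ψ :=
    ⟨⟨fun x => ⟨IsLocalRing.closedPoint Ω, Subsingleton.elim _ _⟩⟩, inferInstance, inferInstance⟩
  have hc : FpqcDescLib.Covers p := (FpqcDescLib.covers_of_isCovering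
    (FpqcDescLib.isCovering_of_quasiCompact ψ)).pullback H.hom p (pullback.snd H.hom ψ)
      (IsPullback.of_hasPullback H.hom ψ)
  obtain ⟨w, hw, -⟩ := hc.desc v fun T a b hab => by
    rw [← cancel_mono j.left, Category.assoc a v j.left, Category.assoc b v j.left, hv, reassoc_of% hab]
  haveI := hc.epi
  have hwj : w ≫ j.left = j'.left ≫ pullback.fst G.hom φ' := by
    rw [← cancel_epi p, reassoc_of% hw, hv]
  have hj'w : j'.left ≫ pullback.snd G.hom φ' = H.hom := Over.w j'
  refine ⟨Over.homMk (pullback.lift w H.hom ?_) (pullback.lift_snd _ _ _), ?_⟩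
  · rw [← Over.w j, reassoc_of% hwj, pullback.condition, reassoc_of% hj'w]
  · refine Over.OverMorphism.ext (pullback.hom_ext ?_ ?_)
    · show (pullback.lift w H.hom _ ≫ ((Over.pullback φ').map j).left) ≫ _ = _
      rw [Category.assoc, map_fst, pullback.lift_fst_assoc]
      exact hwj
    · refine Eq.trans ?_ hj'w.symm
      show (pullback.lift w H.hom _ ≫ ((Over.pullback φ').map j).left) ≫ _ = _
      have h : ((Over.pullback φ').map j).left ≫ pullback.snd G.hom φ' = pullback.snd N.hom φ' := Over.w _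
      rw [Category.assoc, h]
      exact pullback.lift_snd _ _ _

end Groth.Agent.LargeNormal
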