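import Groth.Agent.GrpQuotLib.Group
import Groth.Agent.GrpQuotLib.Components
import Groth.Agent.GrpQuotLib.RightQuot
import Groth.Agent.GrpSchLib.ImageFactor
import Groth.Agent.GrpSchLib.MonoSubgroup
import Groth.Agent.GrpSchLib.NilpQuot
import Groth.Agent.S7982
import Groth.Agent.S7983
import Groth.Agent.S10839
import Groth.Agent.S18068

/-!
The largest smooth connected normal subgroup with a property stable under extensions and quotients.
-/

set_option backward.isDefEq.respectTransparency false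
set_option backward.isDefEq.respectTransparency.types false

universe u

open CategoryTheory Limits AlgebraicGeometry MonoidalCategory CartesianMonoidalCategory MonObj TopologicalSpace
open Groth.Agent.GrpSchLib.BundleQuot

noncomputable section

namespace Groth.Agent.LargeNormal

variable {k : Type u} [Field k]

/-- Inverse image of a closed subgroup. -/
theorem exists_preimage {G Q B : Over (Spec (CommRingCat.of k))} [GrpObj G] [GrpObj Q] [GrpObj B] (q : G ⟶ Q)
    [IsMonHom q] (b : B ⟶ Q) [IsMonHom b] [IsClosedImmersion b.left] :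
    ∃ (E : Over (Spec (CommRingCat.of k))) (_ : GrpObj E) (e : E ⟶ G) (q' : E ⟶ B),
      IsMonHom e ∧ IsClosedImmersion e.left ∧ IsMonHom q' ∧ IsPullback e q' q b := by
  let E := pullback q b
  let e : E ⟶ G := pullback.fst q b
  let q' : E ⟶ B := pullback.snd q b
  have sq : IsPullback e q' q b := IsPullback.of_hasPullback q b
  haveI : IsClosedImmersion e.left := MorphismProperty.of_isPullback (P := @IsClosedImmersion)
    (sq.map (Over.forget _)).flip ‹IsClosedImmersion b.left›
  haveI : Mono e := (Over.forget _).mono_of_mono_map (inferInstanceAs (Mono e.left))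
  haveI : Mono b := (Over.forget _).mono_of_mono_map (inferInstanceAs (Mono b.left))
  have hlift : ∀ {T : Over (Spec (CommRingCat.of k))} (g : T ⟶ G) (n : T ⟶ B), g ≫ q = n ≫ b →
      ∃ x : T ⟶ E, x ≫ e = g := fun g n h => ⟨sq.lift g n h, sq.lift_fst _ _ _⟩
  obtain ⟨η', hη⟩ := hlift η[G] η[B] (by rw [IsMonHom.one_hom q, IsMonHom.one_hom b])
  obtain ⟨μ', hμ⟩ := hlift ((fst E E ≫ e) * (snd E E ≫ e)) ((fst E E ≫ q') * (snd E E ≫ q')) (by
    simp only [MonObj.mul_comp, Category.assoc, sq.w])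
  obtain ⟨ι', hι⟩ := hlift e⁻¹ q'⁻¹ (by simp only [GrpObj.inv_comp, sq.w])
  obtain ⟨str, he⟩ := GrpSchLib.exists_grpObj_of_mono e η' hη μ' hμ ι' hι
  haveI := he
  haveI hq' : IsMonHom q' := by
    refine ⟨?_, ?_⟩
    · rw [← cancel_mono b, Category.assoc, ← sq.w, ← Category.assoc, IsMonHom.one_hom e, IsMonHom.one_hom q,
        IsMonHom.one_hom b]
    · rw [← cancel_mono b, Category.assoc, ← sq.w, ← Category.assoc, IsMonHom.mul_hom e, Category.assoc,
        IsMonHom.mul_hom q, MonoidalCategory.tensorHom_comp_tensorHom_assoc, sq.w, Category.assoc,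
        IsMonHom.mul_hom b, MonoidalCategory.tensorHom_comp_tensorHom_assoc]
  exact ⟨E, str, e, q', he, inferInstance, hq', sq⟩

theorem isNormalHom_preimage {G Q B E : Over (Spec (CommRingCat.of k))} [GrpObj G] [GrpObj Q] [GrpObj B] [GrpObj E]
    {q : G ⟶ Q} [IsMonHom q] {b : B ⟶ Q} {e : E ⟶ G} {q' : E ⟶ B} (sq : IsPullback e q' q b)
    (hb : AlgGrp.IsNormalHom b) : AlgGrp.IsNormalHom e := by
  intro T g n
  obtain ⟨n', hn'⟩ := hb T (g ≫ q) (n ≫ q')
  refine ⟨sq.lift (g * (n ≫ e) * g⁻¹) n' ?_, (sq.lift_fst _ _ _).symm⟩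
  rw [MonObj.mul_comp, MonObj.mul_comp, GrpObj.inv_comp, ← hn', Category.assoc, Category.assoc, sq.w]

/-- The image of a normal subgroup under a quotient map is normal. -/
theorem isNormalHom_image {G Q H B : Over (Spec (CommRingCat.of k))} [GrpObj G] [GrpObj Q] [GrpObj H] [GrpObj B]
    {q : G ⟶ Q} [IsMonHom q] (hq : Cover q) {i : H ⟶ G} (hi : AlgGrp.IsNormalHom i) {p : H ⟶ B} (hp : Cover p)
    {b : B ⟶ Q} [Mono b] (hb : p ≫ b = i ≫ q) : AlgGrp.IsNormalHom b := by
  intro T g n
  obtain ⟨T₁, c₁, g', hc₁, hg⟩ := hq.lift g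
  obtain ⟨T₂, c₂, n₁, hc₂, hn⟩ := hp.lift (c₁ ≫ n)
  obtain ⟨n₂, hn₂⟩ := hi T₂ (c₂ ≫ g') n₁
  have key : (c₂ ≫ c₁) ≫ (g * (n ≫ b) * g⁻¹) = (n₂ ≫ p) ≫ b := by
    rw [Category.assoc (n₂) p b, hb, ← Category.assoc n₂, ← hn₂]
    simp only [MonObj.comp_mul, GrpObj.comp_inv, MonObj.mul_comp, GrpObj.inv_comp, Category.assoc]
    rw [hg, ← hb, reassoc_of% hn]
  obtain ⟨x, hx, -⟩ := (hc₂.comp hc₁).hasLocSec.existsUnique_desc (n₂ ≫ p) fun W a a' e => by
    rw [← cancel_mono b, Category.assoc a, Category.assoc a', ← key, ← Category.assoc a, e, Category.assoc]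
  refine ⟨x, (hc₂.comp hc₁).hasLocSec.hom_ext ?_⟩
  rw [key, ← Category.assoc, hx]

theorem smooth_connected_of_extension {H E B : Over (Spec (CommRingCat.of k))} [GrpObj H] [GrpObj E] [GrpObj B]
    [LocallyOfFiniteType E.hom] [QuasiCompact E.hom] [Smooth H.hom] [QuasiCompact H.hom] [ConnectedSpace H.left]
    [Smooth B.hom] [QuasiCompact B.hom] [ConnectedSpace B.left]
    (i : H ⟶ E) (q : E ⟶ B) [IsMonHom i] [IsMonHom q] [Flat q.left] [Surjective q.left]
    (hker : AlgGrp.IsKernel i q) : Smooth E.hom ∧ ConnectedSpace E.left :=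
  ⟨(S7982.result k H E B i q hker).2.1 inferInstance inferInstance,
    (S7982.result k H E B i q hker).2.2 inferInstance inferInstance⟩

section Main

variable (P : ∀ (E : Over (Spec (CommRingCat.of k))) [GrpObj E], Prop)

/-- A smooth connected normal closed subgroup with the property. -/
structure Good {G H : Over (Spec (CommRingCat.of k))} [GrpObj G] [GrpObj H] (j : H ⟶ G) : Prop where
  hom : IsMonHom j
  closed : IsClosedImmersion j.left
  smooth : Smooth H.hom
  conn : ConnectedSpace H.left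
  normal : AlgGrp.IsNormalHom j
  prop : P H

variable (hPa : ∀ (N E Q : Over (Spec (CommRingCat.of k))) [GrpObj N] [GrpObj E] [GrpObj Q]
      [LocallyOfFiniteType N.hom] [QuasiCompact N.hom] [LocallyOfFiniteType E.hom] [QuasiCompact E.hom]
      [LocallyOfFiniteType Q.hom] [QuasiCompact Q.hom]
      (i : N ⟶ E) (q : E ⟶ Q) [IsMonHom i] [IsMonHom q] [Flat q.left] [Surjective q.left],
      AlgGrp.IsKernel i q → AlgGrp.IsNormalHom i → P N → P Q → P E)

variable {G : Over (Spec (CommRingCat.of k))} [GrpObj G] [LocallyOfFiniteType G.hom] [QuasiCompact G.hom]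

include hPa in
/-- The inverse image of a good subgroup of the quotient by a good subgroup is good. -/
theorem exists_good_preimage {H Q B : Over (Spec (CommRingCat.of k))} [GrpObj H] [GrpObj Q] [GrpObj B]
    [LocallyOfFiniteType Q.hom] [QuasiCompact Q.hom] {j : H ⟶ G} (hj : Good P j) (q : G ⟶ Q) [IsMonHom q]
    [Flat q.left] [Surjective q.left] (hker : AlgGrp.IsKernel j q) {b : B ⟶ Q} (hb : Good P b) :
    ∃ (E : Over (Spec (CommRingCat.of k))) (_ : GrpObj E) (e : E ⟶ G) (q' : E ⟶ B),
      Good P e ∧ IsPullback e q' q b ∧ Epi q' := by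
  haveI := hj.hom; haveI := hj.closed; haveI := hj.smooth; haveI := hj.conn
  haveI := hb.hom; haveI := hb.closed; haveI := hb.smooth; haveI := hb.conn
  obtain ⟨E, _, e, q', he, hec, hq', sq⟩ := exists_preimage q b
  haveI := he; haveI := hec; haveI := hq'
  haveI : LocallyOfFiniteType E.hom := by rw [← Over.w e]; infer_instance
  haveI : QuasiCompact E.hom := by rw [← Over.w e]; infer_instance
  haveI : QuasiCompact H.hom := by rw [← Over.w j]; infer_instance
  haveI : QuasiCompact B.hom := by rw [← Over.w b]; infer_instance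
  haveI : LocallyOfFiniteType H.hom := inferInstance
  haveI : LocallyOfFiniteType B.hom := inferInstance
  have sqf := sq.map (Over.forget _)
  haveI : Flat q'.left := MorphismProperty.of_isPullback sqf ‹Flat q.left›
  haveI : Surjective q'.left := MorphismProperty.of_isPullback sqf ‹Surjective q.left›
  haveI : Mono e := (Over.forget _).mono_of_mono_map (inferInstanceAs (Mono e.left))
  have hjb : j ≫ q = (toUnit H ≫ η[B]) ≫ b := by
    rw [Category.assoc, IsMonHom.one_hom b]
    exact hker.w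
  let i : H ⟶ E := sq.lift j (toUnit H ≫ η[B]) hjb
  have hi : i ≫ e = j := sq.lift_fst _ _ _
  haveI : IsMonHom i := by
    refine ⟨?_, ?_⟩
    · rw [← cancel_mono e, Category.assoc, hi, IsMonHom.one_hom j, IsMonHom.one_hom e]
    · rw [← cancel_mono e, Category.assoc, hi, IsMonHom.mul_hom j, Category.assoc, IsMonHom.mul_hom e,
        MonoidalCategory.tensorHom_comp_tensorHom_assoc, hi]
  have hk : AlgGrp.IsKernel i q' := by
    have outer : IsPullback (i ≫ e) (toUnit H) q (η[B] ≫ b) := by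
      rw [hi, IsMonHom.one_hom b]
      exact hker
    exact IsPullback.of_right outer (sq.lift_snd _ _ _) sq
  have hin : AlgGrp.IsNormalHom i := fun T g n => by
    obtain ⟨n', hn'⟩ := hj.normal T (g ≫ e) n
    refine ⟨n', ?_⟩
    rw [← cancel_mono e, MonObj.mul_comp, MonObj.mul_comp, GrpObj.inv_comp, Category.assoc, Category.assoc, hi, hn']
  obtain ⟨hsm, hcn⟩ := smooth_connected_of_extension i q' hk
  have hcov : Cover q' := GrpSchLib.NilpQuot.cover_of_lft q'
  exact ⟨E, ‹_›, e, q', ⟨he, hec, hsm, hcn, isNormalHom_preimage sq hb.normal,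
    hPa H E B i q' hk hin hj.prop hb.prop⟩, sq, ⟨fun a a' h => hcov.hasLocSec.hom_ext h⟩⟩

variable (hPb : ∀ (E Q : Over (Spec (CommRingCat.of k))) [GrpObj E] [GrpObj Q] [LocallyOfFiniteType E.hom]
      [QuasiCompact E.hom] [LocallyOfFiniteType Q.hom] [QuasiCompact Q.hom]
      (q : E ⟶ Q) [IsMonHom q] [Flat q.left] [Surjective q.left], P E → P Q)

include hPa hPb in
/-- There is a largest good subgroup, and the quotient by it has none but the trivial one. -/
theorem exists_largest
    (h0 : ∃ (E : Over (Spec (CommRingCat.of k))) (_ : GrpObj E) (j : E ⟶ G), Good P j) :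
    ∃ (H : Over (Spec (CommRingCat.of k))) (_ : GrpObj H) (j : H ⟶ G), Good P j ∧
      (∀ (H' : Over (Spec (CommRingCat.of k))) [GrpObj H'] (j' : H' ⟶ G), Good P j' → ∃ f : H' ⟶ H, f ≫ j = j') ∧
      (∀ (Q : Over (Spec (CommRingCat.of k))) [GrpObj Q] [LocallyOfFiniteType Q.hom] [QuasiCompact Q.hom]
        (q : G ⟶ Q) [IsMonHom q] [Flat q.left] [Surjective q.left], AlgGrp.IsKernel j q →
        ∀ (B : Over (Spec (CommRingCat.of k))) [GrpObj B] (b : B ⟶ Q), Good P b → IsIso η[B]) := by
  classical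
  haveI : Nonempty G.left := ⟨η[G].left (IsLocalRing.closedPoint k)⟩
  obtain ⟨gd, hgd⟩ := GrpQuotLib.exists_nat_dim (A := k) (F := G)
  let D : Set ℕ := {r | ∃ (H : Over (Spec (CommRingCat.of k))) (_ : GrpObj H) (j : H ⟶ G),
    Good P j ∧ topologicalKrullDim H.left = r}
  have hdim : ∀ {H : Over (Spec (CommRingCat.of k))} [GrpObj H] (j : H ⟶ G), Good P j →
      ∃ r : ℕ, topologicalKrullDim H.left = r ∧ r ≤ gd := by
    intro H _ j hj
    haveI := hj.closed; haveI := hj.smooth; haveI := hj.conn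
    haveI : QuasiCompact H.hom := by rw [← Over.w j]; infer_instance
    obtain ⟨r, hr⟩ := GrpQuotLib.exists_nat_dim (A := k) (F := H)
    refine ⟨r, hr, ?_⟩
    have h := j.left.isClosedEmbedding.isInducing.topologicalKrullDim_le
    rw [hr, hgd] at h
    exact_mod_cast h
  obtain ⟨E₀, hE₀, j₀, hj₀⟩ := h0
  have hDne : D.Nonempty := by
    obtain ⟨r, hr, -⟩ := hdim j₀ hj₀
    exact ⟨r, E₀, hE₀, j₀, hj₀, hr⟩
  have hDb : BddAbove D := ⟨gd, fun r ⟨H, _, j, hj, hr⟩ => by
    obtain ⟨r', hr', hle⟩ := hdim j hj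
    have : r = r' := by exact_mod_cast hr.symm.trans hr'
    omega⟩
  obtain ⟨H, _, j, hj, hr⟩ := Nat.sSup_mem hDne hDb
  haveI := hj.hom; haveI := hj.closed; haveI := hj.smooth; haveI := hj.conn
  haveI : Mono j := (Over.forget _).mono_of_mono_map (inferInstanceAs (Mono j.left))
  -- a good subgroup containing `H` is `H`
  have hmax : ∀ (E : Over (Spec (CommRingCat.of k))) [GrpObj E] (e : E ⟶ G), Good P e →
      ∀ i : H ⟶ E, i ≫ e = j → ∃ m : E ⟶ H, m ≫ j = e := by
    intro E _ e he i hi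
    haveI := he.closed; haveI := he.smooth; haveI := he.conn
    haveI : IsClosedImmersion (i.left ≫ e.left) := by
      rw [← Over.comp_left, hi]; infer_instance
    haveI : IsClosedImmersion i.left := IsClosedImmersion.of_comp i.left e.left
    haveI := S18068.isIntegral_grp E
    obtain ⟨r, hre, -⟩ := hdim e he
    have hle : (sSup D : ℕ) = r := by
      refine le_antisymm ?_ (le_csSup hDb ⟨E, ‹_›, e, he, hre⟩)
      have h := i.left.isClosedEmbedding.isInducing.topologicalKrullDim_le
      rw [hr, hre] at h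
      exact_mod_cast h
    haveI : IsIso i.left := S10839.result i.left (by
      rw [hre]
      exact (WithBot.coe_injective.ne (ENat.coe_ne_top r))) (by rw [hre, hr, hle])
    haveI : IsIso ((Over.forget _).map i) := ‹IsIso i.left›
    haveI : IsIso i := isIso_of_reflects_iso i (Over.forget _)
    exact ⟨inv i, by rw [← hi, IsIso.inv_hom_id_assoc]⟩
  refine ⟨H, ‹_›, j, hj, fun H' _ j' hj' => ?_, fun Q _ _ _ q _ _ _ hker B _ b hb => ?_⟩
  · haveI := hj'.hom; haveI := hj'.closed; haveI := hj'.smooth; haveI := hj'.conn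
    haveI : QuasiCompact H'.hom := by rw [← Over.w j']; infer_instance
    haveI : QuasiCompact H.hom := by rw [← Over.w j]; infer_instance
    obtain ⟨Q, _, q, hq, hqf, hqs, hqp, hQlft, -, hker⟩ := GrpQuotLib.exists_quotientGrp j hj.normal
    haveI := hq; haveI := hqf; haveI := hqs; haveI := hqp
    have hcov : Cover q := ⟨hqf, hqs, hqp⟩
    obtain ⟨-, hQqc, -⟩ := GrpQuotLib.props_of_cover hcov
    haveI : QuasiCompact Q.hom := hQqc inferInstance
    obtain ⟨B, _, p, b, hp, hbm, hpb, hbc, hpf, hps, hBlft, hBqc⟩ :=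
      GrpSchLib.ImageFactor.exists_image (j' ≫ q)
    haveI := hp; haveI := hbm; haveI := hbc; haveI := hpf; haveI := hps; haveI := hBlft; haveI := hBqc
    obtain ⟨-, hsm, hcn⟩ := S7983.result k H' B p
    haveI : Mono b := (Over.forget _).mono_of_mono_map (inferInstanceAs (Mono b.left))
    have hb : Good P b := ⟨hbm, hbc, hsm inferInstance, hcn inferInstance,
      isNormalHom_image hcov hj'.normal (GrpSchLib.NilpQuot.cover_of_lft p) hpb, hPb H' B p hj'.prop⟩
    obtain ⟨E, _, e, q', he, sq, -⟩ := exists_good_preimage P hPa hj q hker hb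
    have hjb : j ≫ q = (1 : H ⟶ B) ≫ b := by rw [MonObj.one_comp]; exact hker.w
    obtain ⟨m, hm⟩ := hmax E e he (sq.lift j 1 hjb) (sq.lift_fst _ _ _)
    exact ⟨sq.lift j' p hpb.symm ≫ m, by rw [Category.assoc, hm, sq.lift_fst]⟩
  · haveI := hb.hom; haveI := hb.closed
    haveI : Mono b := (Over.forget _).mono_of_mono_map (inferInstanceAs (Mono b.left))
    obtain ⟨E, _, e, q', he, sq, hepi⟩ := exists_good_preimage P hPa hj q hker hb
    have hjb : j ≫ q = (1 : H ⟶ B) ≫ b := by rw [MonObj.one_comp]; exact hker.w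
    obtain ⟨m, hm⟩ := hmax E e he (sq.lift j 1 hjb) (sq.lift_fst _ _ _)
    haveI := hepi
    have h1 : q' ≫ b = 1 := by
      rw [← sq.w, ← hm, Category.assoc, show j ≫ q = 1 from hker.w, MonObj.comp_one]
    have h2 : b = 1 := by rw [← cancel_epi q', h1, MonObj.comp_one]
    have h3 : 𝟙 B = (1 : B ⟶ B) := by rw [← cancel_mono b, Category.id_comp, MonObj.one_comp, h2]
    exact ⟨toUnit B, toUnit_unique _ _, h3.symm⟩

end Main

end Groth.Agent.LargeNormal
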